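import Mathlib

/-!
A square matrix of size 78 over the field with 13 elements, packed into one number: entry `(i, j)` occupies
the 32 binary digits at place `78 * i + j`. A product costs 78 multiplications of long numbers.
-/

set_option autoImplicit false

namespace CfsgLib.Fi22Rep

/-- hand over the value of a number -/
noncomputable def force {α : Type} (x : ℕ) (k : ℕ → α) : α :=
  Nat.rec (motive := fun _ => α) (k 0) (fun n _ => k (Nat.succ n)) x

theorem force_eq {α : Type} (x : ℕ) (k : ℕ → α) : force x k = k x := by cases x <;> rfl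

/-- digit number `t` -/
def slot (x t : ℕ) : ℕ := x / 2 ^ (32 * t) % 2 ^ 32

/-- the number with the digits `c t`, `t < n`, at a stride of `s` places -/
def pack (s : ℕ) (c : ℕ → ℕ) (n : ℕ) : ℕ := ∑ i ∈ Finset.range n, c i * 2 ^ (32 * (s * i))

theorem pack_succ (s : ℕ) (c : ℕ → ℕ) (n : ℕ) :
    pack s c (n + 1) = c 0 + 2 ^ (32 * s) * pack s (fun i => c (i + 1)) n := by
  rw [pack, pack, Finset.sum_range_succ', Finset.mul_sum, Nat.add_comm]
  simp only [Nat.mul_zero, pow_zero, Nat.mul_one, Nat.mul_add, pow_add]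
  congr 1
  refine Finset.sum_congr rfl fun i _ => ?_
  ring

theorem slot_pack : ∀ n (c : ℕ → ℕ), (∀ i < n, c i < 2 ^ 32) → ∀ t < n, slot (pack 1 c n) t = c t
  | 0, _, _, t, ht => absurd ht (Nat.not_lt_zero t)
  | n + 1, c, hc, t, ht => by
    have h0 := hc 0 (Nat.succ_pos n)
    rw [pack_succ, Nat.mul_one]
    cases t with
    | zero => rw [slot, Nat.mul_zero, pow_zero, Nat.div_one, Nat.add_mul_mod_self_left, Nat.mod_eq_of_lt h0]
    | succ t =>
      rw [slot, show 32 * (t + 1) = 32 + 32 * t by ring, pow_add, ← Nat.div_div_eq_div_mul,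
        Nat.add_mul_div_left _ _ (Nat.two_pow_pos 32), Nat.div_eq_of_lt h0, Nat.zero_add]
      exact slot_pack n (fun i => c (i + 1)) (fun i hi => hc (i + 1) (Nat.succ_lt_succ hi)) t
        (Nat.lt_of_succ_lt_succ ht)

theorem slot_div (x a t : ℕ) : slot (x / 2 ^ (32 * a)) t = slot x (a + t) := by
  rw [slot, slot, Nat.div_div_eq_div_mul, ← pow_add, Nat.mul_add]

/-- a repeated mask -/
def geo (m s : ℕ) : ℕ → ℕ
  | 0 => 0
  | n + 1 => m + 2 ^ (32 * s) * geo m s n

theorem geo_closed (m s : ℕ) (hs : 0 < s) : ∀ n,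
    geo m s n = m * ((2 ^ (32 * (s * n)) - 1) / (2 ^ (32 * s) - 1)) := by
  have h1 : 1 < 2 ^ (32 * s) := Nat.one_lt_two_pow (by omega)
  have key : ∀ n, geo m s n * (2 ^ (32 * s) - 1) + m = m * 2 ^ (32 * (s * n)) := by
    intro n
    induction n with
    | zero => simp [geo]
    | succ n ih =>
      obtain ⟨d, hd⟩ : ∃ d, 2 ^ (32 * s) = d + 1 := ⟨_, (Nat.sub_add_cancel h1.le).symm⟩
      rw [show 32 * (s * (n + 1)) = 32 * s + 32 * (s * n) by ring, pow_add, geo]
      rw [hd, Nat.add_sub_cancel] at ih ⊢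
      calc (m + (d + 1) * geo m s n) * d + m = (d + 1) * (geo m s n * d + m) := by ring
        _ = m * ((d + 1) * 2 ^ (32 * (s * n))) := by rw [ih]; ring
  intro n
  have hq : (2 ^ (32 * s) - 1) ∣ 2 ^ (32 * (s * n)) - 1 := by
    have h := Nat.sub_dvd_pow_sub_pow (2 ^ (32 * s)) 1 n
    rwa [one_pow, ← pow_mul, Nat.mul_assoc] at h
  apply Nat.eq_of_mul_eq_mul_right (show 0 < 2 ^ (32 * s) - 1 by omega)
  rw [Nat.mul_assoc, Nat.div_mul_cancel hq, Nat.mul_sub m, Nat.mul_one, ← key n, Nat.add_sub_cancel]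

theorem and_split (x y N : ℕ) :
    x &&& y = (x % 2 ^ N &&& y % 2 ^ N) + 2 ^ N * (x / 2 ^ N &&& y / 2 ^ N) := by
  rw [← Nat.and_mod_two_pow, ← Nat.and_div_two_pow, Nat.mod_add_div]

theorem and_geo (k s : ℕ) (hk : k ≤ 32) (hs : 0 < s) : ∀ n x,
    x &&& geo (2 ^ k - 1) s n = pack s (fun i => slot x (s * i) % 2 ^ k) n
  | 0, x => by simp [geo, pack]
  | n + 1, x => by
    have hm : 2 ^ k - 1 < 2 ^ (32 * s) := by
      have : (2 : ℕ) ^ k ≤ 2 ^ (32 * s) := Nat.pow_le_pow_right (by norm_num) (by omega)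
      have := Nat.two_pow_pos k
      omega
    have e1 : geo (2 ^ k - 1) s (n + 1) % 2 ^ (32 * s) = 2 ^ k - 1 := by
      rw [geo, Nat.add_mul_mod_self_left, Nat.mod_eq_of_lt hm]
    have e2 : geo (2 ^ k - 1) s (n + 1) / 2 ^ (32 * s) = geo (2 ^ k - 1) s n := by
      rw [geo, Nat.add_mul_div_left _ _ (Nat.two_pow_pos _), Nat.div_eq_of_lt hm, Nat.zero_add]
    rw [and_split x _ (32 * s), e1, e2, pack_succ, and_geo k s hk hs n, Nat.and_two_pow_sub_one_eq_mod,
      Nat.mod_mod_of_dvd _ (pow_dvd_pow 2 (by omega : k ≤ 32 * s))]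
    congr 1
    · rw [slot, Nat.mul_zero, Nat.mul_zero, pow_zero, Nat.div_one, Nat.mod_mod_of_dvd _ (pow_dvd_pow 2 hk)]
    · congr 2
      funext i
      rw [slot_div, show s + s * i = s * (i + 1) by ring]

theorem mod_pack : ∀ n x, x % 2 ^ (32 * n) = pack 1 (slot x) n
  | 0, x => by simp [pack, Nat.mod_one]
  | n + 1, x => by
    rw [show 32 * (n + 1) = 32 + 32 * n by ring, pow_add, Nat.mod_mul, mod_pack n (x / 2 ^ 32), pack_succ,
      Nat.mul_one]
    congr 1
    · simp [slot]
    · congr 2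
      funext i
      rw [show x / 2 ^ 32 = x / 2 ^ (32 * 1) by norm_num, slot_div, Nat.add_comm]

/-- mask of a column -/
def colMask : ℕ := (2 ^ 32 - 1) * ((2 ^ (32 * (78 * 78)) - 1) / (2 ^ (32 * 78) - 1))

/-- mask of the quotients -/
def quoMask : ℕ := (2 ^ 13 - 1) * ((2 ^ (32 * (1 * 6084)) - 1) / (2 ^ (32 * 1) - 1))

theorem colMask_eq : colMask = geo (2 ^ 32 - 1) 78 78 := by
  rw [geo_closed _ 78 (by norm_num)]; rfl

theorem quoMask_eq : quoMask = geo (2 ^ 13 - 1) 1 6084 := by
  rw [geo_closed _ 1 (by norm_num)]; rfl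

/-- column `k` of `a` times row `k` of `b` -/
noncomputable def term (a b k : ℕ) : ℕ :=
  ((a / 2 ^ (32 * k)) &&& colMask) * (b / 2 ^ (32 * (78 * k)) % 2 ^ (32 * 78))

/-- the unreduced product -/
noncomputable def acc (a b : ℕ) : ℕ → ℕ :=
  fun n => Nat.rec (motive := fun _ => ℕ) 0 (fun k ih => force ih fun v => v + term a b k) n

theorem acc_succ (a b k : ℕ) : acc a b (k + 1) = acc a b k + term a b k := by
  show force (acc a b k) (fun v => v + term a b k) = _
  rw [force_eq]

theorem acc_eq (a b : ℕ) : ∀ n, acc a b n = ∑ k ∈ Finset.range n, term a b k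
  | 0 => rfl
  | n + 1 => by rw [acc_succ, acc_eq a b n, Finset.sum_range_succ]

/-- the unreduced entries of a product -/
def ent (a b t : ℕ) : ℕ := ∑ k ∈ Finset.range 78, slot a (78 * (t / 78) + k) * slot b (78 * k + t % 78)

theorem term_eq (a b k : ℕ) : term a b k = pack 1 (fun t => slot a (78 * (t / 78) + k) * slot b (78 * k + t % 78)) 6084 := by
  have e1 : (a / 2 ^ (32 * k)) &&& colMask = pack 78 (fun i => slot a (78 * i + k)) 78 := by
    rw [colMask_eq, and_geo 32 78 le_rfl (by norm_num)]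
    congr 1
    funext i
    rw [slot_div, Nat.add_comm k]
    exact Nat.mod_eq_of_lt (Nat.mod_lt _ (Nat.two_pow_pos 32))
  have e2 : b / 2 ^ (32 * (78 * k)) % 2 ^ (32 * 78) = pack 1 (fun j => slot b (78 * k + j)) 78 := by
    rw [mod_pack]
    congr 1
    funext j
    rw [slot_div]
  rw [term, e1, e2, pack, pack, pack, Finset.sum_mul_sum, ← Fin.sum_univ_eq_sum_range _ 6084,
    ← finProdFinEquiv.sum_comp (ι := Fin 78 × Fin 78), Fintype.sum_prod_type, ← Fin.sum_univ_eq_sum_range _ 78]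
  refine Finset.sum_congr rfl fun i _ => ?_
  rw [← Fin.sum_univ_eq_sum_range _ 78]
  refine Finset.sum_congr rfl fun j _ => ?_
  have hv : (finProdFinEquiv (i, j) : ℕ) = j.val + 78 * i.val := rfl
  have h1 : (j.val + 78 * i.val) / 78 = i.val := by omega
  have h2 : (j.val + 78 * i.val) % 78 = j.val := by omega
  simp only [hv, h1, h2, Nat.one_mul]
  rw [show 32 * (j.val + 78 * i.val) = 32 * j.val + 32 * (78 * i.val) by ring, pow_add]
  ring

theorem acc_pack (a b : ℕ) : acc a b 78 = pack 1 (ent a b) 6084 := by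
  rw [acc_eq, Finset.sum_congr rfl fun k _ => term_eq a b k]
  simp only [pack]
  rw [Finset.sum_comm]
  refine Finset.sum_congr rfl fun t _ => ?_
  rw [ent, Finset.sum_mul]

/-- reduce every digit modulo 13 -/
noncomputable def norm13 (x : ℕ) : ℕ := x - 13 * ((x * 40330 / 2 ^ 19) &&& quoMask)

/-- the product of packed matrices -/
noncomputable def mulN (A B : ℕ) : ℕ :=
  force A fun a => force B fun b => force (acc a b 78) fun c => force (norm13 c) fun d => d

theorem slot_quo (y t v : ℕ) (h : slot y t = v) : slot (y / 2 ^ 19) t % 2 ^ 13 = v / 2 ^ 19 := by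
  subst h
  rw [slot, slot, Nat.mod_mod_of_dvd _ (pow_dvd_pow 2 (by norm_num : 13 ≤ 32)),
    Nat.div_div_eq_div_mul, Nat.mul_comm (2 ^ 19), ← Nat.div_div_eq_div_mul,
    ← Nat.mod_mul_right_div_self, ← pow_add]

theorem quo_eq (v : ℕ) (h : v ≤ 11232) : v * 40330 / 2 ^ 19 = v / 13 := by omega

theorem quo_pack (N : ℕ) (c : ℕ → ℕ) (hc : ∀ t < N, c t ≤ 11232) :
    (pack 1 c N * 40330 / 2 ^ 19) &&& geo (2 ^ 13 - 1) 1 N = pack 1 (fun t => c t / 13) N := by
  have hlt : ∀ t < N, c t * 40330 < 2 ^ 32 := fun t ht => by have := hc t ht; omega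
  have e0 : pack 1 c N * 40330 = pack 1 (fun t => c t * 40330) N := by
    rw [pack, pack, Finset.sum_mul]
    exact Finset.sum_congr rfl fun t _ => by ring
  rw [and_geo 13 1 (by norm_num) (by norm_num)]
  refine Finset.sum_congr rfl fun t ht => ?_
  dsimp only
  rw [Finset.mem_range] at ht
  have hs := slot_pack N (fun t => c t * 40330) hlt t ht
  rw [← e0] at hs
  rw [Nat.one_mul, slot_quo _ t _ hs, quo_eq _ (hc t ht)]

theorem mod_pack13 (N : ℕ) (c : ℕ → ℕ) :
    pack 1 c N = pack 1 (fun t => c t % 13) N + 13 * pack 1 (fun t => c t / 13) N := by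
  rw [pack, pack, pack, Finset.mul_sum, ← Finset.sum_add_distrib]
  refine Finset.sum_congr rfl fun t _ => ?_
  conv_lhs => rw [← Nat.mod_add_div (c t) 13]
  ring

theorem norm13_pack (c : ℕ → ℕ) (hc : ∀ t < 6084, c t ≤ 11232) :
    norm13 (pack 1 c 6084) = pack 1 (fun t => c t % 13) 6084 := by
  rw [norm13, quoMask_eq, quo_pack _ c hc, mod_pack13 6084 c]
  exact Nat.add_sub_cancel _ _

/-- all digits below 13 -/
def Good (A : ℕ) : Prop := ∀ t < 6084, slot A t < 13

theorem ent_le {A B : ℕ} (hA : Good A) (hB : Good B) (t : ℕ) (ht : t < 6084) : ent A B t ≤ 11232 := by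
  refine le_trans (Finset.sum_le_card_nsmul _ _ 144 fun k hk => ?_) (by simp)
  rw [Finset.mem_range] at hk
  have h1 := hA (78 * (t / 78) + k) (by omega)
  have h2 := hB (78 * k + t % 78) (by omega)
  exact le_trans (Nat.mul_le_mul (Nat.le_of_lt_succ h1) (Nat.le_of_lt_succ h2)) (by norm_num)

theorem slot_mulN {A B : ℕ} (hA : Good A) (hB : Good B) (t : ℕ) (ht : t < 6084) :
    slot (mulN A B) t = ent A B t % 13 := by
  rw [mulN, force_eq, force_eq, force_eq, force_eq, acc_pack, norm13_pack _ (ent_le hA hB),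
    slot_pack 6084 _ (fun i _ => lt_trans (Nat.mod_lt _ (by norm_num)) (by norm_num)) t ht]

theorem good_mulN {A B : ℕ} (hA : Good A) (hB : Good B) : Good (mulN A B) := fun t ht => by
  rw [slot_mulN hA hB t ht]
  exact Nat.mod_lt _ (by norm_num)

/-- the matrix of a packed number -/
def toM (A : ℕ) : Matrix (Fin 78) (Fin 78) (ZMod 13) :=
  Matrix.of fun i j => ((slot A (78 * i.val + j.val) : ℕ) : ZMod 13)

theorem toM_apply (A : ℕ) (i j : Fin 78) : toM A i j = ((slot A (78 * i.val + j.val) : ℕ) : ZMod 13) := rfl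

theorem toM_mulN {A B : ℕ} (hA : Good A) (hB : Good B) : toM (mulN A B) = toM A * toM B := by
  ext i j
  rw [toM_apply, slot_mulN hA hB _ (by omega), ZMod.natCast_mod, ent, Nat.cast_sum, Matrix.mul_apply,
    ← Fin.sum_univ_eq_sum_range _ 78]
  refine Finset.sum_congr rfl fun k _ => ?_
  rw [Nat.cast_mul, toM_apply, toM_apply, show (78 * i.val + j.val) / 78 = i.val by omega,
    show (78 * i.val + j.val) % 78 = j.val by omega]

/-- the unit matrix -/
def oneN : ℕ := 1 * ((2 ^ (32 * (79 * 78)) - 1) / (2 ^ (32 * 79) - 1))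

theorem oneN_pack : oneN = pack 1 (fun t => if t % 79 = 0 then 1 else 0) 6162 := by
  have h : ∀ n, geo 1 79 n = pack 79 (fun _ => 1) n := by
    intro n
    induction n with
    | zero => rfl
    | succ n ih => rw [pack_succ, geo, ih]
  rw [show oneN = geo 1 79 78 by rw [geo_closed _ 79 (by norm_num)]; rfl, h, pack, pack]
  have e : Finset.range 6162 = Finset.range (79 * 78) := rfl
  rw [e]
  symm
  refine Finset.sum_bij_ne_zero (fun t _ _ => t / 79) ?_ ?_ ?_ ?_
  · intro t ht _
    simp only [Finset.mem_range] at ht ⊢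
    omega
  · intro a _ ha b _ hb hab
    have ha' : a % 79 = 0 := by by_contra h; simp [h] at ha
    have hb' : b % 79 = 0 := by by_contra h; simp [h] at hb
    omega
  · intro i hi _
    simp only [Finset.mem_range] at hi
    refine ⟨79 * i, Finset.mem_range.mpr (by omega), ?_, by omega⟩
    simp
  · intro t _ ht
    have ht' : t % 79 = 0 := by by_contra h; simp [h] at ht
    simp only [ht', if_true, Nat.one_mul]
    rw [show 79 * (t / 79) = t by omega]

theorem slot_oneN (t : ℕ) (ht : t < 6084) : slot oneN t = if t % 79 = 0 then 1 else 0 := by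
  rw [oneN_pack, slot_pack 6162 _ (fun i _ => by split <;> norm_num) t (by omega)]

theorem good_oneN : Good oneN := fun t ht => by rw [slot_oneN t ht]; split <;> norm_num

theorem toM_oneN : toM oneN = 1 := by
  ext i j
  rw [toM_apply, slot_oneN _ (by omega), Matrix.one_apply]
  by_cases h : i = j
  · subst h
    rw [if_pos rfl, if_pos (by omega), Nat.cast_one]
  · rw [if_neg h, if_neg (fun hc => h (Fin.ext (by omega))), Nat.cast_zero]

/-- mask of the low four digits -/
def lowMask : ℕ := (2 ^ 4 - 1) * ((2 ^ (32 * (1 * 6084)) - 1) / (2 ^ (32 * 1) - 1))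

/-- three in every digit -/
def threes : ℕ := 3 * ((2 ^ (32 * (1 * 6084)) - 1) / (2 ^ (32 * 1) - 1))

/-- test that all digits are below 13 -/
noncomputable def matTest (A : ℕ) : Bool :=
  force A fun a => force (a + threes) fun b => Nat.beq (a &&& lowMask) a && Nat.beq (b &&& lowMask) b

theorem geo_pack (m s : ℕ) : ∀ n, geo m s n = pack s (fun _ => m) n
  | 0 => rfl
  | n + 1 => by rw [pack_succ, geo, geo_pack m s n]

theorem small_digits (N A : ℕ) (h1 : A &&& geo (2 ^ 4 - 1) 1 N = A)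
    (h2 : (A + geo 3 1 N) &&& geo (2 ^ 4 - 1) 1 N = A + geo 3 1 N) : ∀ t < N, slot A t < 13 := by
  intro t ht
  have e1 : A = pack 1 (fun i => slot A i % 2 ^ 4) N := by
    conv_lhs => rw [← h1, and_geo 4 1 (by norm_num) (by norm_num)]
    simp only [Nat.one_mul]
  have s1 : slot A t = slot A t % 2 ^ 4 := by
    conv_lhs => rw [e1]
    rw [slot_pack N _ (fun i _ => lt_trans (Nat.mod_lt _ (Nat.two_pow_pos 4)) (by norm_num)) t ht]
  have hlt : slot A t < 16 := by omega
  have e2 : A + geo 3 1 N = pack 1 (fun i => slot A i % 2 ^ 4 + 3) N := by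
    rw [geo_pack]
    conv_lhs => arg 1; rw [e1]
    rw [pack, pack, pack, ← Finset.sum_add_distrib]
    exact Finset.sum_congr rfl fun i _ => by ring
  have e3 : A + geo 3 1 N = pack 1 (fun i => slot (A + geo 3 1 N) i % 2 ^ 4) N := by
    conv_lhs => rw [← h2, and_geo 4 1 (by norm_num) (by norm_num)]
    simp only [Nat.one_mul]
  have s2 : slot (A + geo 3 1 N) t = slot A t % 2 ^ 4 + 3 := by
    conv_lhs => rw [e2]
    rw [slot_pack N _ (fun i _ => by have := Nat.mod_lt (slot A i) (Nat.two_pow_pos 4); omega) t ht]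
  have s3 : slot (A + geo 3 1 N) t = slot (A + geo 3 1 N) t % 2 ^ 4 := by
    conv_lhs => rw [e3]
    rw [slot_pack N _ (fun i _ => lt_trans (Nat.mod_lt _ (Nat.two_pow_pos 4)) (by norm_num)) t ht]
  omega

theorem good_of_matTest {A : ℕ} (h : matTest A = true) : Good A := by
  rw [matTest, force_eq, force_eq, Bool.and_eq_true, Nat.beq_eq, Nat.beq_eq] at h
  have e1 : lowMask = geo (2 ^ 4 - 1) 1 6084 := by rw [geo_closed _ 1 (by norm_num)]; rfl
  have e2 : threes = geo 3 1 6084 := by rw [geo_closed _ 1 (by norm_num)]; rfl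
  rw [e1, e2] at h
  exact small_digits 6084 A h.1 h.2

/-- rows put together -/
noncomputable def ofRows (l : List ℕ) : ℕ :=
  List.rec (motive := fun _ => ℕ) 0 (fun r _ ih => force ih fun v => r + 2 ^ (32 * 78) * v) l

end CfsgLib.Fi22Rep
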