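import Cfsg.Prelude.Def_Spor_Fi22
import Cfsg.Agent.Lib.Fi22Rep.Packed
import Cfsg.Agent.Lib.Fi22Rep.Data
import Cfsg.Agent.Lib.Fi22Pres.Main

/-!
The representation of degree 78 of the presented group Fi22 over the field with 13 elements.
-/

set_option autoImplicit false

namespace CfsgLib.Fi22Rep

open Cfsg.Spor

/-- rows of a generator -/
noncomputable def gL : Fi22.Gen → ℕ
  | .a => ofRows rowsA
  | .b => ofRows rowsB
  | .c => ofRows rowsC
  | .d => ofRows rowsD
  | .e => ofRows rowsE
  | .f => ofRows rowsF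
  | .g => ofRows rowsG
  | .h => ofRows rowsH
  | .i => ofRows rowsI

theorem gL_ok : (matTest (gL .a) && matTest (gL .b) && matTest (gL .c) && matTest (gL .d) && matTest (gL .e) && matTest (gL .f) && matTest (gL .g) && matTest (gL .h) && matTest (gL .i)) = true := by
  decide +kernel

theorem good_gL (x : Fi22.Gen) : Good (gL x) := by
  have h := gL_ok
  simp only [Bool.and_eq_true] at h
  obtain ⟨⟨⟨⟨⟨⟨⟨⟨h1, h2⟩, h3⟩, h4⟩, h5⟩, h6⟩, h7⟩, h8⟩, h9⟩ := h
  cases x
  exacts [good_of_matTest h1, good_of_matTest h2, good_of_matTest h3, good_of_matTest h4,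
    good_of_matTest h5, good_of_matTest h6, good_of_matTest h7, good_of_matTest h8, good_of_matTest h9]

/-- rows of a word -/
noncomputable def wL : List Fi22.Gen → ℕ
  | [] => oneN
  | x :: w => mulN (gL x) (wL w)

theorem good_wL : ∀ w, Good (wL w)
  | [] => good_oneN
  | x :: w => good_mulN (good_gL x) (good_wL w)

theorem toM_wL : ∀ w, toM (wL w) = (w.map fun x => toM (gL x)).prod
  | [] => by simp [wL, toM_oneN]
  | x :: w => by rw [wL, toM_mulN (good_gL x) (good_wL w), toM_wL w, List.map_cons, List.prod_cons]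

/-- the involution test -/
noncomputable def sqOK (x : Fi22.Gen) : Bool := Nat.beq (wL [x, x]) oneN

theorem sq_ok : (sqOK .a && sqOK .b && sqOK .c && sqOK .d && sqOK .e && sqOK .f && sqOK .g &&
    sqOK .h && sqOK .i) = true := by decide +kernel

theorem toM_sq (x : Fi22.Gen) : toM (gL x) * toM (gL x) = 1 := by
  have h := sq_ok
  simp only [Bool.and_eq_true, sqOK] at h
  obtain ⟨⟨⟨⟨⟨⟨⟨⟨h1, h2⟩, h3⟩, h4⟩, h5⟩, h6⟩, h7⟩, h8⟩, h9⟩ := h
  have e : ∀ y, Nat.beq (wL [y, y]) oneN = true → toM (gL y) * toM (gL y) = 1 := fun y hy => by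
    have := congrArg toM (Nat.eq_of_beq_eq_true hy)
    rwa [toM_wL, toM_oneN, List.map_cons, List.map_cons, List.map_nil, List.prod_cons, List.prod_cons,
      List.prod_nil, mul_one] at this
  cases x
  exacts [e _ h1, e _ h2, e _ h3, e _ h4, e _ h5, e _ h6, e _ h7, e _ h8, e _ h9]

/-- the generator as an invertible matrix -/
noncomputable def gGL (x : Fi22.Gen) : GL (Fin 78) (ZMod 13) := ⟨toM (gL x), toM (gL x), toM_sq x, toM_sq x⟩

theorem coe_prod (w : List Fi22.Gen) :
    ((w.map gGL).prod : GL (Fin 78) (ZMod 13)).val = toM (wL w) := by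
  rw [toM_wL]
  induction w with
  | nil => simp
  | cons x w ih => rw [List.map_cons, List.prod_cons, Units.val_mul, ih]; rfl

attribute [local irreducible] gL toM oneN mulN

theorem prod_eq {u v : List Fi22.Gen} (h : Nat.beq (wL u) (wL v) = true) :
    (u.map gGL).prod = (v.map gGL).prod :=
  Units.ext (by rw [coe_prod, coe_prod, Nat.eq_of_beq_eq_true h])

theorem gGL_sq (x : Fi22.Gen) : gGL x * gGL x = 1 := Units.ext (toM_sq x)

/-- the test for one Coxeter relation -/
noncomputable def pairOK : Fi22.Gen → Fi22.Gen → ℕ → Bool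
  | _, _, 1 => true
  | x, y, 2 => Nat.beq (wL [x, y]) (wL [y, x])
  | x, y, 3 => Nat.beq (wL [x, y, x]) (wL [y, x, y])
  | _, _, _ => false

/-- the 36 pairs in one order -/
def pairs : List (Fi22.Gen × Fi22.Gen) :=
  [(.a, .b), (.a, .c), (.a, .d), (.a, .e), (.a, .f), (.a, .g), (.a, .h), (.a, .i),
   (.b, .c), (.b, .d), (.b, .e), (.b, .f), (.b, .g), (.b, .h), (.b, .i),
   (.c, .d), (.c, .e), (.c, .f), (.c, .g), (.c, .h), (.c, .i),
   (.d, .e), (.d, .f), (.d, .g), (.d, .h), (.d, .i),
   (.e, .f), (.e, .g), (.e, .h), (.e, .i),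
   (.f, .g), (.f, .h), (.f, .i), (.g, .h), (.g, .i), (.h, .i)]

theorem pairs_ok :
    pairs.all (fun q => pairOK q.1 q.2 (coxLabel Fi22.edges q.1 q.2)) = true := by decide +kernel

theorem pairs_cover : ∀ x y : Fi22.Gen, x = y ∨ (x, y) ∈ pairs ∨ (y, x) ∈ pairs := by
  intro x y; cases x <;> cases y <;> decide

theorem label_comm : ∀ x y : Fi22.Gen, coxLabel Fi22.edges x y = coxLabel Fi22.edges y x := by
  intro x y; cases x <;> cases y <;> decide

theorem pair_rel (x y : Fi22.Gen) (n : ℕ) (h : pairOK x y n = true) (hn : n ≠ 1) :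
    (gGL x * gGL y) ^ n = 1 := by
  have hs := gGL_sq
  match n, h, hn with
  | 2, h, _ =>
    have e := prod_eq h
    simp only [List.map_cons, List.map_nil, List.prod_cons, List.prod_nil, mul_one] at e
    rw [pow_two]
    calc gGL x * gGL y * (gGL x * gGL y) = gGL x * gGL y * (gGL y * gGL x) := by rw [e]
      _ = 1 := by rw [mul_assoc, ← mul_assoc (gGL y), hs y, one_mul, hs x]
  | 3, h, _ =>
    have e := prod_eq h
    simp only [List.map_cons, List.map_nil, List.prod_cons, List.prod_nil, mul_one] at e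
    calc (gGL x * gGL y) ^ 3 = gGL x * (gGL y * (gGL x * gGL y)) * (gGL x * gGL y) := by
          simp only [pow_succ, pow_zero, one_mul, mul_assoc]
      _ = gGL x * (gGL x * (gGL y * gGL x)) * (gGL x * gGL y) := by rw [← e]
      _ = 1 := by
        rw [← mul_assoc (gGL x) (gGL x), hs x, one_mul, mul_assoc, ← mul_assoc (gGL x) (gGL x), hs x,
          one_mul, hs y]

theorem cox_rel (x y : Fi22.Gen) : (gGL x * gGL y) ^ coxLabel Fi22.edges x y = 1 := by
  have hall := pairs_ok
  rw [List.all_eq_true] at hall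
  rcases pairs_cover x y with rfl | h | h
  · rw [show coxLabel Fi22.edges x x = 1 by simp [coxLabel], pow_one, gGL_sq]
  · rcases eq_or_ne (coxLabel Fi22.edges x y) 1 with h1 | h1
    · have hxy : x = y := by
        by_contra hne
        revert h1 hne; cases x <;> cases y <;> decide
      subst hxy
      rw [h1, pow_one, gGL_sq]
    · exact pair_rel x y _ (hall _ h) h1
  · rw [label_comm x y]
    rcases eq_or_ne (coxLabel Fi22.edges y x) 1 with h1 | h1
    · have hxy : x = y := by
        by_contra hne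
        revert h1 hne; cases x <;> cases y <;> decide
      subst hxy
      rw [h1, pow_one, gGL_sq]
    · have hall' := hall (y, x) h
      have hp := pair_rel y x _ hall' h1
      have e : gGL x * gGL y = (gGL y * gGL x)⁻¹ := by
        apply eq_inv_of_mul_eq_one_left
        rw [mul_assoc, ← mul_assoc (gGL y), gGL_sq, one_mul, gGL_sq]
      rw [e, inv_pow, hp, inv_one]

/-- fast powers -/
noncomputable def powL (A : ℕ) : ℕ → ℕ
  | 0 => oneN
  | n + 1 => mulN A (powL A n)

theorem good_powL {A : ℕ} (hA : Good A) : ∀ n, Good (powL A n)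
  | 0 => good_oneN
  | n + 1 => good_mulN hA (good_powL hA n)

theorem toM_powL {A : ℕ} (hA : Good A) : ∀ n, toM (powL A n) = toM A ^ n
  | 0 => by rw [powL, toM_oneN, pow_zero]
  | n + 1 => by rw [powL, toM_mulN hA (good_powL hA n), toM_powL hA n, pow_succ']

theorem extra_ok :
    (Nat.beq (powL (wL [.d, .c, .b, .d, .e, .f, .d, .h, .i]) 10) oneN &&
      Nat.beq (powL (wL [.a, .b, .c, .d, .e, .f, .h]) 9) oneN &&
      Nat.beq (powL (wL [.b, .c, .d, .e, .f, .g, .h]) 9) oneN) = true := by decide +kernel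

theorem word_pow (w : List Fi22.Gen) (n : ℕ) (h : Nat.beq (powL (wL w) n) oneN = true) :
    (w.map gGL).prod ^ n = 1 :=
  Units.ext (by rw [Units.val_pow_eq_pow_val, coe_prod, ← toM_powL (good_wL w), Nat.eq_of_beq_eq_true h, toM_oneN,
    Units.val_one])

theorem lift_rels : ∀ r ∈ coxRelators Fi22.edges ∪ {r | r ∈ Fi22.extra}, FreeGroup.lift gGL r = 1 := by
  rintro r (⟨x, -, y, -, rfl⟩ | hr)
  · simpa using cox_rel x y
  · have h := extra_ok
    simp only [Bool.and_eq_true] at h
    obtain ⟨⟨h1, h2⟩, h3⟩ := h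
    simp only [Fi22.extra, Set.mem_ofPred_eq, List.mem_cons, List.not_mem_nil, or_false] at hr
    rcases hr with rfl | rfl | rfl
    · simpa [mul_assoc, Fi22.a, Fi22.b, Fi22.c, Fi22.d, Fi22.e, Fi22.f, Fi22.g, Fi22.h, Fi22.i]
        using word_pow _ _ h1
    · simpa [mul_assoc, Fi22.a, Fi22.b, Fi22.c, Fi22.d, Fi22.e, Fi22.f, Fi22.g, Fi22.h, Fi22.i]
        using word_pow _ _ h2
    · simpa [mul_assoc, Fi22.a, Fi22.b, Fi22.c, Fi22.d, Fi22.e, Fi22.f, Fi22.g, Fi22.h, Fi22.i]
        using word_pow _ _ h3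

/-- the representation of degree 78 -/
noncomputable def rep : Fi22 →* GL (Fin 78) (ZMod 13) := PresentedGroup.toGroup lift_rels

theorem a_entry : toM (gL .a) 1 1 ≠ 1 := by
  rw [toM_apply]
  decide +kernel

theorem rep_injective : Function.Injective rep := by
  have : IsSimpleGroup Fi22 := CfsgLib.Fi22Pres.isFi22.1
  rcases (inferInstance : rep.ker.Normal).eq_bot_or_eq_top with h | h
  · exact (MonoidHom.ker_eq_bot_iff rep).mp h
  · exfalso
    have h1 : rep (PresentedGroup.of Fi22.Gen.a) = 1 :=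
      MonoidHom.mem_ker.mp (by rw [h]; exact Subgroup.mem_top _)
    rw [rep, PresentedGroup.toGroup.of] at h1
    have h2 : toM (gL .a) = toM oneN := by rw [toM_oneN]; exact congrArg Units.val h1
    apply a_entry
    rw [h2, toM_oneN, Matrix.one_apply_eq]

end CfsgLib.Fi22Rep
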